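import Cfsg.Agent.H97.D3.Psl

/-!
# S5261, StRk1: the conclusions from the structure (helper97)

* `Concl1` : the conclusions of `StRk1`;
* `rk1_of_struct` : from an injection `PSL₂(F) →* G / N`, `N` a `p'`-core centralizing the Sylow subgroups;
* `rk1_of_surj` : from a normal subgroup `L ≥ P` and a surjection `L →* PSL₂(F)` with `p'`-kernel centralized by `P`.
-/

set_option autoImplicit false
set_option linter.unusedSectionVars false

namespace Cfsg.Agent.H97.D3

open Matrix Cfsg.Agent.H367.PU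
open scoped Pointwise

/-- the conclusions of `StRk1` -/
def Concl1 {p : ℕ} {G : Type*} [Group G] (m : ℕ) (P : Sylow p G) : Prop :=
    (∀ P' P'' : Sylow p G, P' ≠ P → P'' ≠ P → ∃ x ∈ (P : Subgroup G),
      (P' : Subgroup G).map (MulAut.conj x).toMonoidHom = P'') ∧
    (∀ P' : Sylow p G, P' ≠ P → ∃ (k : Type) (_ : Field k) (_ : Fintype k) (x y : k → G),
      Fintype.card k = p ^ m ∧ Set.range x = (P : Subgroup G) ∧ Set.range y = (P' : Subgroup G) ∧
      Function.Injective x ∧ Function.Injective y ∧ (∀ a b, x (a + b) = x a * x b) ∧ (∀ a b, y (a + b) = y a * y b) ∧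
      ∀ f : k, f ≠ 0 → ∀ g : k,
        (x f * y (-f⁻¹) * x f) * x g * (x f * y (-f⁻¹) * x f)⁻¹ = y (-(f⁻¹ ^ 2 * g)) ∧
        (x f * y (-f⁻¹) * x f) * y g * (x f * y (-f⁻¹) * x f)⁻¹ = x (-(f ^ 2 * g)))

theorem charP_of_card {F : Type} [Field F] [Fintype F] {p m : ℕ} [hp : Fact p.Prime] (h : Fintype.card F = p ^ m) :
    CharP F p := by
  obtain ⟨r, hr⟩ := CharP.exists F
  obtain ⟨n, hr1, hr2⟩ := FiniteField.card F r
  have h1 : r ∣ p ^ m := by
    rw [← h, hr2]
    exact dvd_pow_self r n.ne_zero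
  have h2 : r = p := (Nat.prime_dvd_prime_iff_eq hr1 hp.out).1 (hr1.dvd_of_dvd_pow h1)
  rwa [h2] at hr

theorem concl1_of {p : ℕ} [Fact p.Prime] {G : Type*} [Group G] {m : ℕ} {P : Sylow p G} (ht : Trans P)
    (h : ∀ P' : Sylow p G, P' ≠ P → ∃ (k : Type) (_ : Field k) (_ : Fintype k), Fintype.card k = p ^ m ∧
      Rel k ((P : Subgroup G) : Set G) ((P' : Subgroup G) : Set G)) : Concl1 m P := by
  refine ⟨?_, ?_⟩
  · intro P' P'' h1 h2
    obtain ⟨x, hx, hx2⟩ := ht P' P'' h1 h2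
    exact ⟨x, hx, by rw [← hx2]; rfl⟩
  · intro P' h1
    obtain ⟨k, i1, i2, hk, x, y, hr⟩ := h P' h1
    exact ⟨k, i1, i2, x, y, hk, hr.rx, hr.ry, hr.ix, hr.iy, hr.ax, hr.ay, fun f hf g => ⟨hr.wx f hf g, hr.wy f hf g⟩⟩

section

variable {p : ℕ} [hp : Fact p.Prime] {F : Type} [Field F] [Fintype F] [CharP F p]

theorem all_of_inj {X : Type*} [Group X] [Finite X] (f : ProjectiveSpecialLinearGroup (Fin 2) F →* X)
    (hf : Function.Injective f) (hr : ∀ Q : Sylow p X, (Q : Subgroup X) ≤ f.range) (P : Sylow p X) :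
    Trans P ∧ ∀ P' : Sylow p X, P' ≠ P → Rel F ((P : Subgroup X) : Set X) ((P' : Subgroup X) : Set X) := by
  refine ⟨Trans.of_inj f hf hr (trans_psl p _), fun P' hP' => Rel.of_inj f hf hr (rel_psl p _ _ ?_)⟩
  intro h3
  apply hP'
  apply Sylow.ext
  have h4 : (P' : Subgroup X).comap f = (P : Subgroup X).comap f :=
    congrArg (fun R : Sylow p (ProjectiveSpecialLinearGroup (Fin 2) F) =>
      (R : Subgroup (ProjectiveSpecialLinearGroup (Fin 2) F))) h3
  rw [← Subgroup.map_comap_eq_self (hr P'), h4, Subgroup.map_comap_eq_self (hr P)]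

theorem all_of_quot {G : Type*} [Group G] [Finite G] {N : Subgroup G} [N.Normal] (hN : CQ p N)
    (f : ProjectiveSpecialLinearGroup (Fin 2) F →* G ⧸ N)
    (hf : Function.Injective f) (hr : ∀ Q : Sylow p (G ⧸ N), (Q : Subgroup (G ⧸ N)) ≤ f.range) (P : Sylow p G) :
    Trans P ∧ ∀ P' : Sylow p G, P' ≠ P → Rel F ((P : Subgroup G) : Set G) ((P' : Subgroup G) : Set G) := by
  refine ⟨Trans.of_quot hN (all_of_inj f hf hr _).1, fun P' hP' => Rel.of_quot hN ?_⟩
  refine (all_of_inj f hf hr (P.mapSurjective (QuotientGroup.mk'_surjective N))).2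
    (P'.mapSurjective (QuotientGroup.mk'_surjective N)) ?_
  intro h3
  exact hP' (hN.inj (congrArg (fun R : Sylow p (G ⧸ N) => (R : Subgroup (G ⧸ N))) h3))

end

/-- **The conclusions of `StRk1`**, form 1 -/
theorem rk1_of_struct {G : Type*} [Group G] [Finite G] {p m : ℕ} [hp : Fact p.Prime] (P : Sylow p G)
    {F : Type} [Field F] [Fintype F] (hF : Fintype.card F = p ^ m) {N : Subgroup G} [N.Normal] (hN : CQ p N)
    (f : ProjectiveSpecialLinearGroup (Fin 2) F →* G ⧸ N)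
    (hf : Function.Injective f) (hr : ∀ Q : Sylow p (G ⧸ N), (Q : Subgroup (G ⧸ N)) ≤ f.range) : Concl1 m P := by
  have hc : CharP F p := charP_of_card hF
  obtain ⟨h1, h2⟩ := all_of_quot hN f hf hr P
  exact concl1_of h1 fun P' hP' => ⟨F, inferInstance, inferInstance, hF, h2 P' hP'⟩

/-- **The conclusions of `StRk1`**, form 2 -/
theorem rk1_of_surj {G : Type*} [Group G] [Finite G] {p m : ℕ} [hp : Fact p.Prime] (P : Sylow p G)
    {F : Type} [Field F] [Fintype F] (hF : Fintype.card F = p ^ m) {L : Subgroup G} (hL : L.Normal)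
    (hPL : (P : Subgroup G) ≤ L) (f : ↥L →* ProjectiveSpecialLinearGroup (Fin 2) F) (hf : Function.Surjective f)
    (hk : ¬ p ∣ Nat.card f.ker) (hz : ∀ z : ↥L, z ∈ f.ker → ∀ x ∈ (P : Subgroup G), (z : G) * x = x * z) :
    Concl1 m P := by
  have hc : CharP F p := charP_of_card hF
  have hrL : ∀ Q : Sylow p G, (Q : Subgroup G) ≤ L.subtype.range := by
    intro Q
    obtain ⟨g, rfl⟩ := MulAction.exists_smul_eq G P Q
    rintro _ ⟨x, hx, rfl⟩
    exact ⟨⟨_, hL.conj_mem x (hPL hx) g⟩, rfl⟩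
  have hi := L.subtype_injective
  have hN : CQ p f.ker := by
    refine ⟨inferInstance, ((Nat.Prime.coprime_iff_not_dvd hp.out).2 hk).symm, ?_⟩
    intro Q z hzk y hy
    obtain ⟨g, rfl⟩ := MulAction.exists_smul_eq ↥L (P.comapOfInjective L.subtype hi (hrL P)) Q
    have h1 : g⁻¹ * y * g ∈ ((P.comapOfInjective L.subtype hi (hrL P) : Sylow p ↥L) : Subgroup ↥L) :=
      (mem_smul_iff _ _ _).1 hy
    have h2 : ((g⁻¹ * y * g : ↥L) : G) ∈ (P : Subgroup G) := h1
    have h3 : g⁻¹ * z * g ∈ f.ker := by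
      have h4 := (inferInstance : f.ker.Normal).conj_mem z hzk g⁻¹
      rwa [inv_inv] at h4
    have h5 := hz _ h3 _ h2
    have h6 : (g⁻¹ * z * g) * (g⁻¹ * y * g) = (g⁻¹ * y * g) * (g⁻¹ * z * g) := Subtype.ext h5
    calc z * y = g * ((g⁻¹ * z * g) * (g⁻¹ * y * g)) * g⁻¹ := by group
      _ = g * ((g⁻¹ * y * g) * (g⁻¹ * z * g)) * g⁻¹ := by rw [h6]
      _ = y * z := by group
  let e := QuotientGroup.quotientKerEquivOfSurjective f hf
  have hr : ∀ Q : Sylow p (↥L ⧸ f.ker), (Q : Subgroup (↥L ⧸ f.ker)) ≤ e.symm.toMonoidHom.range := by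
    intro Q x _
    exact ⟨e x, e.symm_apply_apply x⟩
  have key := fun R : Sylow p ↥L => all_of_quot hN e.symm.toMonoidHom e.symm.injective hr R
  refine concl1_of (Trans.of_inj L.subtype hi hrL (key _).1) fun P' hP' => ⟨F, inferInstance, inferInstance, hF, ?_⟩
  refine Rel.of_inj L.subtype hi hrL ((key _).2 _ ?_)
  intro h3
  apply hP'
  apply Sylow.ext
  have h4 : (P' : Subgroup G).comap L.subtype = (P : Subgroup G).comap L.subtype :=
    congrArg (fun R : Sylow p ↥L => (R : Subgroup ↥L)) h3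
  rw [← Subgroup.map_comap_eq_self (hrL P'), h4, Subgroup.map_comap_eq_self (hrL P)]

end Cfsg.Agent.H97.D3
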