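import Cfsg.Agent.H97.D3.Rel
import Cfsg.Agent.H260.Psl

/-!
# S5261, StRk1: the facts about `PSL₂(F)` (helper97)
-/

set_option autoImplicit false
set_option linter.unusedSectionVars false

namespace Cfsg.Agent.H97.D3

open Matrix Cfsg.Agent.LieClassical.SLTwoUnipotent Cfsg.Agent.H260.Psl
open scoped Pointwise

section

variable {F : Type*} [Field F]

/-- the Weyl element -/
def ww (f : F) (hf : f ≠ 0) : SpecialLinearGroup (Fin 2) F := ⟨!![0, f; -f⁻¹, 0], by simp [hf]⟩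

theorem ww_eq (f : F) (hf : f ≠ 0) : u f * l (-f⁻¹) * u f = ww f hf := by
  apply ext_coe
  rw [coe_mul, coe_mul, coe_u, coe_l]
  ext i j
  fin_cases i <;> fin_cases j <;> simp [ww, Matrix.mul_apply, Fin.sum_univ_two, hf]

theorem ww_u (f : F) (hf : f ≠ 0) (g : F) : ww f hf * u g * (ww f hf)⁻¹ = l (-(f⁻¹ ^ 2 * g)) := by
  rw [mul_inv_eq_iff_eq_mul]
  apply ext_coe
  rw [coe_mul, coe_mul, coe_u, coe_l]
  ext i j
  fin_cases i <;> fin_cases j <;> simp [ww, Matrix.mul_apply, Fin.sum_univ_two]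
  field_simp

theorem ww_l (f : F) (hf : f ≠ 0) (g : F) : ww f hf * l g * (ww f hf)⁻¹ = u (-(f ^ 2 * g)) := by
  rw [mul_inv_eq_iff_eq_mul]
  apply ext_coe
  rw [coe_mul, coe_mul, coe_u, coe_l]
  ext i j
  fin_cases i <;> fin_cases j <;> simp [ww, Matrix.mul_apply, Fin.sum_univ_two]
  field_simp

/-- the inverse of `ww 1` -/
def wi : SpecialLinearGroup (Fin 2) F := ⟨!![0, -1; 1, 0], by simp⟩

theorem ww_inv : (ww (1 : F) one_ne_zero)⁻¹ = wi := by
  rw [DivisionMonoid.inv_eq_of_mul]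
  apply ext_coe
  rw [coe_mul, coe_one]
  ext i j
  fin_cases i <;> fin_cases j <;> simp [ww, wi, Matrix.mul_apply, Fin.sum_univ_two]

/-- Bruhat -/
theorem bruhat (g : SpecialLinearGroup (Fin 2) F) (h : g 1 0 ≠ 0) :
    ∃ (a : F) (b : SpecialLinearGroup (Fin 2) F), b 1 0 = 0 ∧ g = u a * ww 1 one_ne_zero * b := by
  refine ⟨g 0 0 / g 1 0, (u (g 0 0 / g 1 0) * ww 1 one_ne_zero)⁻¹ * g, ?_, ?_⟩
  · have h1 : (u (g 0 0 / g 1 0) * ww 1 one_ne_zero)⁻¹ = (ww 1 one_ne_zero)⁻¹ * u (-(g 0 0 / g 1 0)) := by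
      rw [_root_.mul_inv_rev, u_neg]
    rw [h1, ww_inv]
    have h3 : ((wi * u (-(g 0 0 / g 1 0)) * g : SpecialLinearGroup (Fin 2) F) : Matrix (Fin 2) (Fin 2) F) 1 0 = 0 := by
      rw [coe_mul, coe_mul, coe_u]
      simp [wi, Matrix.mul_apply, Fin.sum_univ_two, h]
    exact h3
  · rw [mul_inv_cancel_left]

end

section

variable {F : Type} [Field F] [Fintype F] (p : ℕ) [hp : Fact p.Prime] [CharP F p]

theorem l_pr_inj {a b : F} (h : pr F (l a) = pr F (l b)) : a = b := by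
  have h1 : pr F (ww 1 one_ne_zero * l a * (ww 1 one_ne_zero)⁻¹) = pr F (ww 1 one_ne_zero * l b * (ww 1 one_ne_zero)⁻¹) := by
    rw [map_mul, map_mul, h, ← map_mul, ← map_mul]
  rw [ww_l, ww_l] at h1
  have h2 := u_pr_inj h1
  simpa using h2

/-- the opposite Sylow subgroup -/
noncomputable def P₁ (F : Type) [Field F] [Fintype F] (p : ℕ) [Fact p.Prime] [CharP F p] :
    Sylow p (ProjectiveSpecialLinearGroup (Fin 2) F) := pr F (ww 1 one_ne_zero) • P₀ F p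

theorem mem_P₁ (x : ProjectiveSpecialLinearGroup (Fin 2) F) :
    x ∈ (P₁ F p : Subgroup (ProjectiveSpecialLinearGroup (Fin 2) F)) ↔ ∃ a : F, pr F (l a) = x := by
  constructor
  · rintro ⟨y, hy, hyx⟩
    obtain ⟨a, ha⟩ := (mem_P₀ p y).1 hy
    have h1 : pr F (ww 1 one_ne_zero) * y * (pr F (ww 1 one_ne_zero))⁻¹ = x := hyx
    refine ⟨-(((1 : F)⁻¹) ^ 2 * a), ?_⟩
    rw [← h1, ← ha, ← map_mul, ← map_inv, ← map_mul, ww_u]
  · rintro ⟨a, rfl⟩
    refine ⟨pr F (u (-a)), (mem_P₀ p _).2 ⟨_, rfl⟩, ?_⟩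
    show pr F (ww 1 one_ne_zero) * pr F (u (-a)) * (pr F (ww 1 one_ne_zero))⁻¹ = _
    rw [← map_mul, ← map_inv, ← map_mul, ww_u]
    congr 2
    simp

theorem P₁_ne : P₁ F p ≠ P₀ F p := by
  intro h
  have h1 : pr F (l 1) ∈ P₀ F p := by
    rw [← h]
    exact (mem_P₁ p _).2 ⟨1, rfl⟩
  obtain ⟨a, ha⟩ := (mem_P₀ p _).1 h1
  have h2 : (u a)⁻¹ * l 1 ∈ Subgroup.center (SpecialLinearGroup (Fin 2) F) := QuotientGroup.eq.mp ha
  rw [← u_neg] at h2
  have h3 : ((u (-a) * l 1 : SpecialLinearGroup (Fin 2) F) : Matrix (Fin 2) (Fin 2) F) 1 0 = 1 := by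
    rw [coe_mul, coe_u, coe_l]
    simp [Matrix.mul_apply, Fin.sum_univ_two]
  rcases ClassicalGeometry.PSL2Basic.mem_center_SL2_iff.mp h2 with h4 | h4
  · rw [h4] at h3
    simp at h3
  · have h5 : ((u (-a) * l 1 : SpecialLinearGroup (Fin 2) F) : Matrix (Fin 2) (Fin 2) F) 1 0 = 0 := by
      have h6 := congrArg (fun g : SpecialLinearGroup (Fin 2) F => g 1 0) h4
      refine h6.trans ?_
      simp
    rw [h5] at h3
    exact zero_ne_one h3

theorem rel₀ : Rel F ((P₀ F p : Subgroup (ProjectiveSpecialLinearGroup (Fin 2) F)) : Set (ProjectiveSpecialLinearGroup (Fin 2) F))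
    ((P₁ F p : Subgroup (ProjectiveSpecialLinearGroup (Fin 2) F)) : Set (ProjectiveSpecialLinearGroup (Fin 2) F)) := by
  refine ⟨fun a => pr F (u a), fun a => pr F (l a), ?_, ?_, ?_, ?_, ?_, ?_, ?_, ?_⟩
  · ext x
    exact (mem_P₀ p x).symm
  · ext x
    exact (mem_P₁ p x).symm
  · intro a b h
    exact u_pr_inj h
  · intro a b h
    exact l_pr_inj h
  · intro a b
    show pr F (u (a + b)) = _
    rw [u_add, map_mul]
  · intro a b
    show pr F (l (a + b)) = _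
    rw [l_add, map_mul]
  · intro f hf g
    simp only [← map_mul, ← map_inv]
    rw [ww_eq f hf, ww_u]
  · intro f hf g
    simp only [← map_mul, ← map_inv]
    rw [ww_eq f hf, ww_l]

theorem exists_u (Q : Sylow p (ProjectiveSpecialLinearGroup (Fin 2) F)) (hQ : Q ≠ P₀ F p) :
    ∃ a : F, pr F (u a) • P₁ F p = Q := by
  obtain ⟨g, rfl⟩ := MulAction.exists_smul_eq (ProjectiveSpecialLinearGroup (Fin 2) F) (P₀ F p) Q
  obtain ⟨g, rfl⟩ := pr_surj (F := F) g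
  have key : ∀ b : SpecialLinearGroup (Fin 2) F, b 1 0 = 0 → pr F b • P₀ F p = P₀ F p := by
    intro b hb
    have h1 : b ∈ Subgroup.normalizer (upperUnipSL F : Set (SpecialLinearGroup (Fin 2) F)) :=
      mem_normalizer_upperUnipSL_iff.2 hb
    exact Sylow.smul_eq_iff_mem_normalizer.2 (Subgroup.le_normalizer_map (pr F) ⟨_, h1, rfl⟩)
  by_cases h : g 1 0 = 0
  · exact absurd (key g h) hQ
  · obtain ⟨a, b, hb, hg⟩ := bruhat g h
    refine ⟨a, ?_⟩
    rw [hg, map_mul, map_mul, mul_smul, mul_smul, key b hb]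
    rfl

theorem trans₀ : Trans (P₀ F p) := by
  intro P' P'' h1 h2
  obtain ⟨a, rfl⟩ := exists_u p P' h1
  obtain ⟨b, rfl⟩ := exists_u p P'' h2
  refine ⟨pr F (u (b - a)), (mem_P₀ p _).2 ⟨_, rfl⟩, ?_⟩
  rw [← mul_smul, ← map_mul, ← u_add, sub_add_cancel]

theorem trans_psl (Q : Sylow p (ProjectiveSpecialLinearGroup (Fin 2) F)) : Trans Q := trans_all (trans₀ p) Q

theorem rel_psl (Q Q' : Sylow p (ProjectiveSpecialLinearGroup (Fin 2) F)) (h : Q' ≠ Q) :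
    Rel F ((Q : Subgroup (ProjectiveSpecialLinearGroup (Fin 2) F)) : Set (ProjectiveSpecialLinearGroup (Fin 2) F))
      ((Q' : Subgroup (ProjectiveSpecialLinearGroup (Fin 2) F)) : Set (ProjectiveSpecialLinearGroup (Fin 2) F)) :=
  all_of_pair (trans₀ p) (P₁_ne p) (rel₀ p) Q Q' h

end

end Cfsg.Agent.H97.D3
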