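import Cfsg.Agent.H367.PU.Quo

/-!
# S5261, StRk1: the relations of `SL₂(k)` between two Sylow subgroups, lifting (helper97)
-/

set_option autoImplicit false
set_option linter.unusedSectionVars false

namespace Cfsg.Agent.H97.D3

open Subgroup Cfsg.Agent.H666.TI Cfsg.Agent.H367.PU
open scoped Pointwise

/-- `x`, `y` parametrize the sets `A`, `B` and satisfy the relations of `SL₂(k)` -/
structure IsRel {k : Type} [Field k] {G : Type*} [Group G] (A B : Set G) (x y : k → G) : Prop where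
  rx : Set.range x = A
  ry : Set.range y = B
  ix : Function.Injective x
  iy : Function.Injective y
  ax : ∀ a b, x (a + b) = x a * x b
  ay : ∀ a b, y (a + b) = y a * y b
  wx : ∀ f : k, f ≠ 0 → ∀ g : k, (x f * y (-f⁻¹) * x f) * x g * (x f * y (-f⁻¹) * x f)⁻¹ = y (-(f⁻¹ ^ 2 * g))
  wy : ∀ f : k, f ≠ 0 → ∀ g : k, (x f * y (-f⁻¹) * x f) * y g * (x f * y (-f⁻¹) * x f)⁻¹ = x (-(f ^ 2 * g))

/-- there are such parametrizations -/
def Rel (k : Type) [Field k] {G : Type*} [Group G] (A B : Set G) : Prop := ∃ x y : k → G, IsRel A B x y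

/-- `P` is transitive on the other Sylow subgroups -/
def Trans {p : ℕ} {G : Type*} [Group G] (P : Sylow p G) : Prop :=
  ∀ P' P'' : Sylow p G, P' ≠ P → P'' ≠ P → ∃ x ∈ (P : Subgroup G), x • P' = P''

section

variable {k : Type} [Field k] {G : Type*} [Group G]

theorem IsRel.map {H : Type*} [Group H] (φ : G →* H) {A B : Set G} (hA : Set.InjOn φ A) (hB : Set.InjOn φ B)
    {x y : k → G} (h : IsRel A B x y) : IsRel (φ '' A) (φ '' B) (fun a => φ (x a)) (fun a => φ (y a)) where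
  rx := by rw [← h.rx, ← Set.range_comp]; rfl
  ry := by rw [← h.ry, ← Set.range_comp]; rfl
  ix := fun a b hab => h.ix (hA (h.rx ▸ ⟨a, rfl⟩) (h.rx ▸ ⟨b, rfl⟩) hab)
  iy := fun a b hab => h.iy (hB (h.ry ▸ ⟨a, rfl⟩) (h.ry ▸ ⟨b, rfl⟩) hab)
  ax := fun a b => by rw [h.ax, map_mul]
  ay := fun a b => by rw [h.ay, map_mul]
  wx := fun f hf g => by
    rw [← h.wx f hf g]
    simp only [map_mul, map_inv]
  wy := fun f hf g => by
    rw [← h.wy f hf g]
    simp only [map_mul, map_inv]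

theorem Rel.map {H : Type*} [Group H] (φ : G →* H) {A B : Set G} (hA : Set.InjOn φ A) (hB : Set.InjOn φ B)
    (h : Rel k A B) : Rel k (φ '' A) (φ '' B) := by
  obtain ⟨x, y, h⟩ := h
  exact ⟨_, _, h.map φ hA hB⟩

end

section

variable {k : Type} [Field k] {p : ℕ} {G : Type*} [Group G] [hp : Fact p.Prime]

theorem smul_coe' (P : Sylow p G) (g : G) :
    ((g • P : Sylow p G) : Subgroup G) = (P : Subgroup G).map (MulAut.conj g).toMonoidHom := rfl

theorem coe_smul_set (P : Sylow p G) (g : G) :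
    (((g • P : Sylow p G) : Subgroup G) : Set G) = (MulAut.conj g).toMonoidHom '' ((P : Subgroup G) : Set G) := rfl

theorem mem_smul_iff (P : Sylow p G) (g x : G) :
    x ∈ ((g • P : Sylow p G) : Subgroup G) ↔ g⁻¹ * x * g ∈ (P : Subgroup G) := by
  constructor
  · rintro ⟨y, hy, hyx⟩
    have h1 : g * y * g⁻¹ = x := hyx
    rw [← h1]
    have h2 : g⁻¹ * (g * y * g⁻¹) * g = y := by group
    rw [h2]
    exact hy
  · intro h
    refine ⟨_, h, ?_⟩
    show g * (g⁻¹ * x * g) * g⁻¹ = x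
    group

theorem Rel.smul {P P' : Sylow p G} (g : G) (h : Rel k ((P : Subgroup G) : Set G) ((P' : Subgroup G) : Set G)) :
    Rel k (((g • P : Sylow p G) : Subgroup G) : Set G) (((g • P' : Sylow p G) : Subgroup G) : Set G) := by
  rw [coe_smul_set, coe_smul_set]
  exact h.map _ (MulAut.conj g).injective.injOn (MulAut.conj g).injective.injOn

theorem Trans.smul {P : Sylow p G} (g : G) (h : Trans P) : Trans (g • P) := by
  intro P' P'' h1 h2
  obtain ⟨x, hx, hx2⟩ := h (g⁻¹ • P') (g⁻¹ • P'') (fun h3 => h1 (by rw [← h3, smul_inv_smul]))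
    (fun h3 => h2 (by rw [← h3, smul_inv_smul]))
  refine ⟨g * x * g⁻¹, (mem_smul_iff _ _ _).2 ?_, ?_⟩
  · have h2 : g⁻¹ * (g * x * g⁻¹) * g = x := by group
    rw [h2]
    exact hx
  · rw [mul_smul, mul_smul, hx2, smul_inv_smul]

/-- an element of `P` fixes `P` -/
theorem smul_self {P : Sylow p G} {x : G} (hx : x ∈ (P : Subgroup G)) : x • P = P :=
  Sylow.smul_eq_iff_mem_normalizer.2 (le_normalizer hx)

/-- all the conclusions from one pair -/
theorem all_of_pair [Finite G] {P P₁ : Sylow p G} (ht : Trans P) (h1 : P₁ ≠ P)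
    (hr : Rel k ((P : Subgroup G) : Set G) ((P₁ : Subgroup G) : Set G)) (Q Q' : Sylow p G) (hQ : Q' ≠ Q) :
    Rel k ((Q : Subgroup G) : Set G) ((Q' : Subgroup G) : Set G) := by
  obtain ⟨g, rfl⟩ := MulAction.exists_smul_eq G P Q
  obtain ⟨x, hx, hx2⟩ := ht P₁ (g⁻¹ • Q') h1 (fun h3 => hQ (by rw [← h3, smul_inv_smul]))
  have h2 := (hr.smul x).smul g
  rw [smul_self hx, hx2, smul_inv_smul] at h2
  exact h2

theorem trans_all [Finite G] {P : Sylow p G} (ht : Trans P) (Q : Sylow p G) : Trans Q := by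
  obtain ⟨g, rfl⟩ := MulAction.exists_smul_eq G P Q
  exact ht.smul g

/-! ### injections -/

theorem smul_of_comap {K : Type*} [Group K] (f : K →* G) (hf : Function.Injective f) (g : K) (A B : Sylow p G)
    (hA : (A : Subgroup G) ≤ f.range) (hB : (B : Subgroup G) ≤ f.range)
    (hAB : g • A.comapOfInjective f hf hA = B.comapOfInjective f hf hB) : f g • A = B := by
  apply Sylow.ext
  have hAB' := congrArg (fun R : Sylow p K => (R : Subgroup K)) hAB
  have e1 : ((B : Subgroup G).comap f).map f = B := Subgroup.map_comap_eq_self hB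
  have e2 : ((A : Subgroup G).comap f).map f = A := Subgroup.map_comap_eq_self hA
  have e3 : ((A : Subgroup G).comap f).map (MulAut.conj g).toMonoidHom = (B : Subgroup G).comap f := hAB'
  rw [smul_coe', ← e1, ← e3, Subgroup.map_map]
  conv_lhs => rw [← e2]
  rw [Subgroup.map_map]
  congr 1
  ext z
  simp

theorem Trans.of_inj {K : Type*} [Group K] (f : K →* G) (hf : Function.Injective f)
    (hr : ∀ Q : Sylow p G, (Q : Subgroup G) ≤ f.range) {P : Sylow p G}
    (h : Trans (P.comapOfInjective f hf (hr P))) : Trans P := by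
  intro P' P'' h1 h2
  have key : ∀ Q : Sylow p G, Q ≠ P → Q.comapOfInjective f hf (hr Q) ≠ P.comapOfInjective f hf (hr P) := by
    intro Q hQ h3
    apply hQ
    apply Sylow.ext
    have h4 : (Q : Subgroup G).comap f = (P : Subgroup G).comap f := congrArg (fun R : Sylow p K => (R : Subgroup K)) h3
    rw [← Subgroup.map_comap_eq_self (hr Q), h4, Subgroup.map_comap_eq_self (hr P)]
  obtain ⟨x, hx, hx2⟩ := h _ _ (key P' h1) (key P'' h2)
  exact ⟨f x, hx, smul_of_comap f hf x P' P'' (hr _) (hr _) hx2⟩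

theorem Rel.of_inj {K : Type*} [Group K] (f : K →* G) (hf : Function.Injective f)
    (hr : ∀ Q : Sylow p G, (Q : Subgroup G) ≤ f.range) {P P' : Sylow p G}
    (h : Rel k ((P.comapOfInjective f hf (hr P) : Subgroup K) : Set K) ((P'.comapOfInjective f hf (hr P') : Subgroup K) : Set K)) :
    Rel k ((P : Subgroup G) : Set G) ((P' : Subgroup G) : Set G) := by
  have h1 := h.map f hf.injOn hf.injOn
  have key : ∀ Q : Sylow p G, f '' ((Q.comapOfInjective f hf (hr Q) : Subgroup K) : Set K) = ((Q : Subgroup G) : Set G) := by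
    intro Q
    have h2 := congrArg (fun S : Subgroup G => (S : Set G)) (Subgroup.map_comap_eq_self (hr Q))
    exact h2
  rw [key, key] at h1
  exact h1

/-! ### quotients -/

variable [Finite G] {N : Subgroup G} [N.Normal]

theorem smul_of_quot (hN : CQ p N) (g : G) (A B : Sylow p G)
    (hAB : (QuotientGroup.mk' N g) • A.mapSurjective (QuotientGroup.mk'_surjective N) =
      B.mapSurjective (QuotientGroup.mk'_surjective N)) : g • A = B := by
  apply hN.inj
  have h0 := congrArg (fun R : Sylow p (G ⧸ N) => (R : Subgroup (G ⧸ N))) hAB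
  have e1 : ((A : Subgroup G).map (QuotientGroup.mk' N)).map (MulAut.conj (QuotientGroup.mk' N g)).toMonoidHom =
      (B : Subgroup G).map (QuotientGroup.mk' N) := h0
  rw [← e1, smul_coe', Subgroup.map_map, Subgroup.map_map]
  congr 1

theorem Trans.of_quot (hN : CQ p N) {P : Sylow p G}
    (h : Trans (P.mapSurjective (QuotientGroup.mk'_surjective N))) : Trans P := by
  intro P' P'' h1 h2
  have key : ∀ Q : Sylow p G, Q ≠ P → Q.mapSurjective (QuotientGroup.mk'_surjective N) ≠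
      P.mapSurjective (QuotientGroup.mk'_surjective N) := by
    intro Q hQ h3
    exact hQ (hN.inj (congrArg (fun R : Sylow p (G ⧸ N) => (R : Subgroup (G ⧸ N))) h3))
  obtain ⟨_, ⟨x, hx, rfl⟩, hx2⟩ := h _ _ (key P' h1) (key P'' h2)
  exact ⟨x, hx, smul_of_quot hN x P' P'' hx2⟩

theorem Rel.of_quot (hN : CQ p N) {P P' : Sylow p G}
    (h : Rel k (QuotientGroup.mk' N '' ((P : Subgroup G) : Set G)) (QuotientGroup.mk' N '' ((P' : Subgroup G) : Set G))) :
    Rel k ((P : Subgroup G) : Set G) ((P' : Subgroup G) : Set G) := by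
  obtain ⟨x, y, h⟩ := h
  have hx : ∀ a, ∃ z, z ∈ (P : Subgroup G) ∧ QuotientGroup.mk' N z = x a := by
    intro a
    have h1 : x a ∈ QuotientGroup.mk' N '' ((P : Subgroup G) : Set G) := h.rx ▸ ⟨a, rfl⟩
    exact h1
  have hy : ∀ a, ∃ z, z ∈ (P' : Subgroup G) ∧ QuotientGroup.mk' N z = y a := by
    intro a
    have h1 : y a ∈ QuotientGroup.mk' N '' ((P' : Subgroup G) : Set G) := h.ry ▸ ⟨a, rfl⟩
    exact h1
  choose X hX1 hX2 using hx
  choose Y hY1 hY2 using hy
  have iP := fun {a b : G} => hN.injOn (x := a) (y := b) P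
  have iP' := fun {a b : G} => hN.injOn (x := a) (y := b) P'
  have hw : ∀ f : k, QuotientGroup.mk' N (X f * Y (-f⁻¹) * X f) = x f * y (-f⁻¹) * x f := by
    intro f
    rw [map_mul, map_mul, hX2, hY2]
  have hm1 : ∀ f : k, f ≠ 0 → (X f * Y (-f⁻¹) * X f) • P = P' := by
    intro f hf
    refine hN.le_of_map_le fun r hr => ?_
    obtain ⟨s, hs, hsr⟩ := hr
    have h1 : (X f * Y (-f⁻¹) * X f) * s * (X f * Y (-f⁻¹) * X f)⁻¹ = r := hsr
    obtain ⟨g, hg⟩ : QuotientGroup.mk' N s ∈ Set.range x := h.rx ▸ ⟨s, hs, rfl⟩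
    refine ⟨Y (-(f⁻¹ ^ 2 * g)), hY1 _, ?_⟩
    apply QuotientGroup.eq.1
    change QuotientGroup.mk' N _ = QuotientGroup.mk' N _
    rw [hY2, ← h.wx f hf g, ← h1]
    simp only [map_mul, map_inv, hX2, hY2, hg]
  have hm2 : ∀ f : k, f ≠ 0 → (X f * Y (-f⁻¹) * X f) • P' = P := by
    intro f hf
    refine hN.le_of_map_le fun r hr => ?_
    obtain ⟨s, hs, hsr⟩ := hr
    have h1 : (X f * Y (-f⁻¹) * X f) * s * (X f * Y (-f⁻¹) * X f)⁻¹ = r := hsr
    obtain ⟨g, hg⟩ : QuotientGroup.mk' N s ∈ Set.range y := h.ry ▸ ⟨s, hs, rfl⟩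
    refine ⟨X (-(f ^ 2 * g)), hX1 _, ?_⟩
    apply QuotientGroup.eq.1
    change QuotientGroup.mk' N _ = QuotientGroup.mk' N _
    rw [hX2, ← h.wy f hf g, ← h1]
    simp only [map_mul, map_inv, hX2, hY2, hg]
  refine ⟨X, Y, ?_, ?_, ?_, ?_, ?_, ?_, ?_, ?_⟩
  · ext z
    constructor
    · rintro ⟨a, rfl⟩
      exact hX1 a
    · intro hz
      obtain ⟨a, ha⟩ : QuotientGroup.mk' N z ∈ Set.range x := h.rx ▸ ⟨z, hz, rfl⟩
      exact ⟨a, iP (hX1 a) hz ((hX2 a).trans ha)⟩
  · ext z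
    constructor
    · rintro ⟨a, rfl⟩
      exact hY1 a
    · intro hz
      obtain ⟨a, ha⟩ : QuotientGroup.mk' N z ∈ Set.range y := h.ry ▸ ⟨z, hz, rfl⟩
      exact ⟨a, iP' (hY1 a) hz ((hY2 a).trans ha)⟩
  · intro a b hab
    exact h.ix (by rw [← hX2, ← hX2, hab])
  · intro a b hab
    exact h.iy (by rw [← hY2, ← hY2, hab])
  · intro a b
    exact iP (hX1 _) (mul_mem (hX1 _) (hX1 _)) (by rw [map_mul, hX2, hX2, hX2, h.ax])
  · intro a b
    exact iP' (hY1 _) (mul_mem (hY1 _) (hY1 _)) (by rw [map_mul, hY2, hY2, hY2, h.ay])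
  · intro f hf g
    refine iP' ?_ (hY1 _) ?_
    · have h1 : (X f * Y (-f⁻¹) * X f) * X g * (X f * Y (-f⁻¹) * X f)⁻¹ ∈ (((X f * Y (-f⁻¹) * X f) • P : Sylow p G) : Subgroup G) :=
        ⟨X g, hX1 g, rfl⟩
      rw [hm1 f hf] at h1
      exact h1
    · rw [hY2, ← h.wx f hf g]
      simp only [map_mul, map_inv, hX2, hY2]
  · intro f hf g
    refine iP ?_ (hX1 _) ?_
    · have h1 : (X f * Y (-f⁻¹) * X f) * Y g * (X f * Y (-f⁻¹) * X f)⁻¹ ∈ (((X f * Y (-f⁻¹) * X f) • P' : Sylow p G) : Subgroup G) :=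
        ⟨Y g, hY1 g, rfl⟩
      rw [hm2 f hf] at h1
      exact h1
    · rw [hX2, ← h.wy f hf g]
      simp only [map_mul, map_inv, hX2, hY2]

end

end Cfsg.Agent.H97.D3
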